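import Cfsg.Agent.H459.Six.Frame
import Cfsg.Agent.H812.TC.OddGen
import Cfsg.Agent.H309.SF.Row7
import Cfsg.Agent.H309.SF.Row5
import Cfsg.Agent.H126.TC.SpEven
import Cfsg.Agent.H144.TC.RowFour
import Cfsg.Agent.H3.TC.Six
import Cfsg.Agent.H781.TC6.Odd
import Cfsg.Agent.H311.TC6.GF
import Cfsg.Agent.H960.TL.Main
import Cfsg.Agent.H295.T6.Nine
import Cfsg.Agent.H651.O9.Row
import Cfsg.Agent.H332.TC.G23
import Cfsg.Agent.H137.G24.Fin
import Cfsg.Agent.H240.G2S.Split
import Cfsg.Agent.H332.TC.D42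
import Cfsg.Agent.H90.TC.D43Row
import Cfsg.Agent.H932.TC6.Row
import Cfsg.Agent.H519.TDU.Inst
import Cfsg.Agent.H269.T6.RowF4
import Cfsg.Agent.H621.F4T.Row

/-!
# S2464: union rows (helper700); the open rows are hypotheses
-/

set_option autoImplicit false

namespace Cfsg.Agent.H700.TC6

open Cfsg.Agent.H777.T6
open Polynomial

universe u

/-- the symplectic rows -/
theorem spOpen : Cfsg.Agent.H459.Six.SpOpen where
  four := fun F _ _ h5 ho => by
    by_cases h : Fintype.card F = 5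
    · exact (Cfsg.Agent.H309.SF.row3_psp_two_five h).s2464
    by_cases h7 : Fintype.card F = 7
    · exact (Cfsg.Agent.H309.SF.row3_psp_two_seven h7).s2464
    exact (Cfsg.Agent.H812.TC.OddRow.row3_odd_gen ho (by omega)).s2464
  even := fun F _ _ m hm he => by
    have h2 : (2 : F) = 0 := by
      have h1 := (FiniteField.even_card_iff_char_two (F := F)).2 he
      have : CharP F 2 := ringChar.of_eq h1
      exact CharTwo.two_eq_zero
    exact (Cfsg.Agent.H126.TC.Sp.row3_psp_even hm F h2).s2464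
  eight := fun F _ _ hq => by
    have h2 : (2 : F) ≠ 0 := Cfsg.Agent.H459.Six.two_ne (by omega)
    exact (Cfsg.Agent.H144.TC.row3_psp_odd (by norm_num) F h2).s2464

/-- the unitary groups of dimension three -/
theorem t6_psu_three (F : Type) [Field F] [Fintype F] (q : ℕ) (hF : Fintype.card F = q ^ 2) (hq : 3 ≤ q) :
    T6 (PSU 3 F q) := T6.of_pp (Cfsg.Agent.H3.TC.pp_psu_three_all hq hF)

/-- `Ω_(2n+1)(q)` -/
theorem t6_isPOmegaOdd {G : Type u} [Group G] (h : IsPOmegaOdd G) : T6 G := by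
  obtain ⟨F, _, _, m, hm, hodd, ⟨e⟩⟩ := h
  refine T6.of_equiv e ?_
  have h2 : 2 ≤ Fintype.card F := Fintype.one_lt_card
  have h3 : 3 ≤ Fintype.card F := by
    obtain ⟨k, hk⟩ := hodd
    omega
  have gen : (m = 4 → ∃ k, 2 ≤ k ∧ Fintype.card F = 3 ^ k) → T6 (POmega F (quadFormOdd m F)) := by
    intro h4
    obtain ⟨N, f, hN, hf⟩ := Cfsg.Agent.H311.TC6.exists_gf (F := F) hodd hm h4
    exact Cfsg.Agent.H781.TC6.t6_odd_of hodd hm hN hf (Cfsg.Agent.H960.TL.tlf (by rw [Nat.card_eq_fintype_card]; exact h3) hm hf)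
  by_cases hm4 : m = 4
  · subst hm4
    obtain ⟨p, hp⟩ := CharP.exists F
    have hpp : p.Prime := (CharP.char_is_prime_or_zero F p).resolve_right (by
      rintro rfl
      have := CharP.charP_to_charZero F
      exact not_injective_infinite_finite (Nat.cast : ℕ → F) Nat.cast_injective)
    have : Fact p.Prime := ⟨hpp⟩
    obtain ⟨k, hk⟩ := FiniteField.card F p
    by_cases h5 : 5 ≤ p
    · exact Cfsg.Agent.H295.T6.t6_omega_nine h5
    · have hp3 : p = 3 := by
        have h1 := hpp.two_le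
        interval_cases p
        · exfalso
          rw [hk.2] at hodd
          exact (Nat.not_odd_iff_even.2 (Nat.even_pow.2 ⟨even_two, k.ne_zero⟩)) hodd
        · rfl
        · exact absurd hpp (by norm_num)
      subst hp3
      by_cases hk1 : (k : ℕ) = 1
      · exact Cfsg.Agent.H651.O9.six_omega9 (by rw [hk.2, hk1, pow_one])
      · exact gen fun _ => ⟨k, by have := k.pos; omega, hk.2⟩
  · exact gen fun h => absurd h hm4

/-- `G₂(q)` -/
theorem t6_isoChevG2
    (five : ∀ (K : Type) [Field K] [Fintype K], Fintype.card K = 5 → T6 ↥(Lie.chevG2.group K))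
    (seven : ∀ (K : Type) [Field K] [Fintype K], Fintype.card K = 7 → T6 ↥(Lie.chevG2.group K))
    (gen : ∀ (K : Type) [Field K] [Fintype K], 9 ≤ Fintype.card K → T6 ↥(Lie.chevG2.group K))
    {G : Type u} [Group G] (h : Lie.IsoChevG2 G) : T6 G := by
  obtain ⟨K, _, _, h3, ⟨e⟩⟩ := h
  refine T6.of_equiv e ?_
  by_cases k3 : Fintype.card K = 3
  · exact Cfsg.Agent.H332.TC.G23.six_g2_three k3
  by_cases k4 : Fintype.card K = 4
  · exact (Cfsg.Agent.H137.G24.row3_g2_four k4).s2464
  by_cases k5 : Fintype.card K = 5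
  · exact five K k5
  by_cases k7 : Fintype.card K = 7
  · exact seven K k7
  by_cases k8 : Fintype.card K = 8
  · exact Cfsg.Agent.H240.G2S.t6_G2_eight (by rw [Nat.card_eq_fintype_card, k8])
  by_cases k6 : Fintype.card K = 6
  · exfalso
    have := FiniteField.isPrimePow_card K
    rw [k6] at this
    revert this
    norm_num [isPrimePow_nat_iff_bounded]
    decide
  exact gen K (by omega)

/-- `³D₄(q)` -/
theorem t6_iso3D4 {G : Type u} [Group G] (h : Lie.Iso3D4 G) : T6 G := by
  obtain ⟨K, _, _, q, hq, hK, ⟨e⟩⟩ := h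
  refine T6.of_equiv e ?_
  by_cases k2 : q = 2
  · subst k2
    exact Cfsg.Agent.H332.TC.D42.six_td4_two hK
  by_cases k3 : q = 3
  · subst k3
    exact (Cfsg.Agent.H90.TC.D43.row3_td4_three hK).s2464
  by_cases k5 : q = 5
  · subst k5
    exact Cfsg.Agent.H519.TDU.t6_five hK
  by_cases k7 : q = 7
  · subst k7
    exact Cfsg.Agent.H519.TDU.t6_seven hK
  by_cases k17 : q = 17
  · subst k17
    exact Cfsg.Agent.H519.TDU.t6_seventeen hK
  exact Cfsg.Agent.H932.TC6.Row.t6_twistedD4 hq hK k2 k3 k5 k7 k17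

/-- `F₄(q)` -/
theorem t6_isoF4
    (three : ∀ (K : Type) [Field K] [Fintype K], Fintype.card K = 3 → T6 ↥(Lie.chevF4.group K))
    (late : ∀ (K : Type) [Field K] [Fintype K], (Fintype.card K = 5 ∨ Fintype.card K = 7 ∨ Fintype.card K = 17) →
      T6 ↥(Lie.chevF4.group K))
    {G : Type u} [Group G] (h : Lie.IsoF4 G) : T6 G := by
  obtain ⟨K, _, _, ⟨e⟩⟩ := h
  refine T6.of_equiv e ?_
  have h1 : 2 ≤ Fintype.card K := Fintype.one_lt_card
  by_cases k2 : Fintype.card K = 2
  · exact Cfsg.Agent.H621.F4T.six_F4_two (by rw [Nat.card_eq_fintype_card, k2])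
  by_cases k3 : Fintype.card K = 3
  · exact three K k3
  by_cases kl : Fintype.card K = 5 ∨ Fintype.card K = 7 ∨ Fintype.card K = 17
  · exact late K kl
  exact Cfsg.Agent.H269.T6.t6_F4 (by rw [Nat.card_eq_fintype_card]; omega) (by rw [Nat.card_eq_fintype_card]; omega)
    (by rw [Nat.card_eq_fintype_card]; omega) (by rw [Nat.card_eq_fintype_card]; omega)

end Cfsg.Agent.H700.TC6
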